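import Groth.Agent.SerreDual.ExtShProj
import Groth.Agent.SerreDual.ExtShGenPts
import Groth.Agent.SerreDual.VanishingDepth
import Groth.Agent.LocCoh.Gorenstein
import Groth.Agent.LocCoh.BaseChange
import Groth.Agent.LocCoh.Vanishing
import Groth.Agent.LocCoh.BSeq
import Groth.Agent.GrSectLib.PointGorenstein

/-!
# Vanishing of `H^i` of negative twists and local cohomology at closed points
-/

set_option autoImplicit false
set_option linter.style.haveILetI false
set_option backward.isDefEq.respectTransparency.types false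

universe u

open CategoryTheory CategoryTheory.Abelian CategoryTheory.Limits AlgebraicGeometry Opposite TopologicalSpace
open Groth.Agent.Coherent Groth.Agent.PicLib Groth.Agent.AmpleLib Groth.Agent.EulerLib
open IsLocalRing

namespace Groth.Agent.LocVan5

open Groth.Agent.SerreDual

/-- Local duality as an equivalence of vanishing. -/
theorem subsingleton_H_iff_ext {R : Type u} [CommRing R] [IsRegularLocalRing R] {n i j : ℕ}
    (hn : ringKrullDim R = n) (hij : j + i = n) (A B : ModuleCat.{u} R) [Module.Finite R A]
    (hB : IsFreeCyclic R B) :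
    Subsingleton (_root_.LocCoh.H (maximalIdeal R) j A) ↔ Subsingleton (Ext A B i) := by
  haveI := GrSectLib.gorenstein_of_regular R
  obtain ⟨v, hv⟩ := hB
  let eB : R ≃ₗ[R] B := LinearEquiv.ofBijective (LinearMap.toSpanSingleton R B v) hv
  obtain ⟨E, _, _, hE⟩ := Matlis6.exists_isHullAt (maximalIdeal R)
  obtain ⟨e⟩ := LocCoh.gorenstein_duality hn hE i j hij (A : Type u)
  let q : Ext A B i ≃ₗ[R] Ext (ModuleCat.of R A) (ModuleCat.of R R) i :=
    (CAlgH3.ExtShift.congrRight eB i).symm
  constructor
  · intro h
    refine q.toEquiv.subsingleton_congr.2 ?_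
    refine subsingleton_of_forall_eq 0 fun x => ?_
    by_contra hx
    obtain ⟨φ, hφ⟩ := hE.exists_apply_ne_zero_local hx
    obtain ⟨y, rfl⟩ := e.surjective φ
    rw [Subsingleton.elim y 0, map_zero] at hφ
    exact hφ rfl
  · intro h
    haveI : Subsingleton (Ext (ModuleCat.of R A) (ModuleCat.of R R) i) := q.toEquiv.subsingleton_congr.1 h
    exact e.toEquiv.subsingleton

/-- Transport along an isomorphism of rings. -/
theorem subsingleton_H_semilinear {R S : Type u} [CommRing R] [IsNoetherianRing R] [IsLocalRing R]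
    [CommRing S] [IsNoetherianRing S] [IsLocalRing S] (g : R →+* S) (hg : Function.Bijective g)
    {M N : Type u} [AddCommGroup M] [Module R M] [AddCommGroup N] [Module S N]
    (e : M ≃+ N) (he : ∀ r m, e (r • m) = g r • e m) (i : ℕ) :
    Subsingleton (_root_.LocCoh.H (maximalIdeal R) i M) ↔ Subsingleton (_root_.LocCoh.H (maximalIdeal S) i N) := by
  letI := g.toAlgebra
  letI : Module R N := Module.compHom N g
  haveI : IsScalarTower R S N := IsScalarTower.of_algebraMap_smul fun _ _ => rfl
  let l : M ≃ₗ[R] N := { e with map_smul' := he }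
  haveI : IsLocalHom (algebraMap R S) := .of_surjective g hg.2
  have hI : (maximalIdeal R).map (algebraMap R S) = maximalIdeal S :=
    IsLocalRing.eq_maximalIdeal (Ideal.IsMaximal.map_bijective (algebraMap R S) hg (maximalIdeal.isMaximal R))
  obtain ⟨φ, -⟩ := LocCoh.exists_H_independence R S (maximalIdeal R) i N
  rw [hI] at φ
  exact (LocCoh.Hequiv (maximalIdeal R) i l).toEquiv.subsingleton_congr.trans φ.toEquiv.subsingleton_congr.symm

variable {k : Type u} [Field k] {n : ℕ}

local notation "P" => CohB1.ProjSpace n k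

theorem vanishing_iff {F : (CohB1.ProjSpace n k).Modules} (hF : Coh.IsCoh F) (i : ℕ) :
    (∃ N : ℕ, ∀ m : ℕ, N ≤ m → Subsingleton
      (Coh.HH P (CohB1.tensorMod F (Twist.twistProjSpace n k (-(m : ℤ)))) i)) ↔
    ∀ x : P, IsClosed ({x} : Set P) →
      Subsingleton (_root_.LocCoh.H (maximalIdeal ((CohB1.ProjSpace n k).presheaf.stalk x)) i (F.presheaf.stalk x)) := by
  haveI : IsProper (P ↘ Spec (CommRingCat.of k)) := isProper_projSpace_toSpec n k
  haveI : IsProper (CohB1.ProjSpace.toSpec n k) := isProper_projSpace_toSpec n k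
  haveI := isNoetherian_of_proper (k := k) (X := P)
  haveI := hF.1
  have hdim : ∀ x : P, IsClosed ({x} : Set P) → ringKrullDim ((CohB1.ProjSpace n k).presheaf.stalk x) = (n : ℕ) :=
    fun x hx => by
      haveI := isRegularLocalRing_stalk_projSpace n k x
      rw [← IsRegularLocalRing.spanFinrank_maximalIdeal, spanFinrank_stalk_closed hx]
  rcases lt_or_ge n i with hi | hi
  · refine iff_of_true ⟨0, fun m _ => ?_⟩ fun x hx => ?_
    · haveI : (CohB1.ProjSpace n k).IsSeparated := isSeparated_of_proper (X := CohB1.ProjSpace n k) k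
      haveI : Coh.IsQCoh (CohB1.tensorMod F (Twist.twistProjSpace n k (-(m : ℤ)))) :=
        (isCoh_twist (isInvertible_twist n k (-(m : ℤ))) hF).1
      exact EulerLib.subsingleton_HH_of_dim _ (DimLib.PN.topologicalKrullDim_projSpace (n := n) (k := k)).le hi
    · exact LocCoh.subsingleton_H_of_supportDim_lt
        (((Module.supportDim_le_ringKrullDim _ _).trans (hdim x hx).le).trans_lt (by exact_mod_cast hi))
  let ω : (CohB1.ProjSpace n k).Modules := Twist.twistProjSpace n k (-((n : ℤ) + 1))
  haveI := SerreDual.hasInjectiveResolutions_modules (CohB1.ProjSpace n k)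
  let I := injectiveResolution ω
  have hω : FlatMod.IsFinLocFreeOfRank 1 ω := isFinLocFreeOfRank_one (isInvertible_twist n k _)
  rw [← isZero_homology_iff_vanishing hF I (show i + (n - i) = n by omega)]
  have hH : Coh.IsCoh ((homCx F I).homology (n - i)) := isCoh_homology_projSpace hF
    (CohBC.isCoh_of_isFinLocFree (isFinLocFree_of_invertible (isInvertible_twist n k _))) I _
  have key : ∀ x : P, IsClosed ({x} : Set P) →
      (Subsingleton (((homCx F I).homology (n - i)).presheaf.stalk x) ↔
        Subsingleton (_root_.LocCoh.H (maximalIdeal ((CohB1.ProjSpace n k).presheaf.stalk x)) i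
          (F.presheaf.stalk x))) := by
    intro x hx
    obtain ⟨_, ⟨U₀, hU, rfl⟩, hxU, -⟩ :=
      (CohB1.ProjSpace n k).isBasis_affineOpens.exists_subset_of_mem_open (Set.mem_univ x) isOpen_univ
    let U : (CohB1.ProjSpace n k).Opens := U₀
    haveI : IsAffine (U : Scheme.{u}) := hU
    let x' : (U : Scheme.{u}) := ⟨x, hxU⟩
    let g := U.ι.stalkMap x'
    have hgb : Function.Bijective g.hom := ConcreteCategory.bijective_of_isIso g
    haveI : IsRegularLocalRing ((CohB1.ProjSpace n k).presheaf.stalk (U.ι.base x')) :=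
      isRegularLocalRing_stalk_projSpace n k x
    haveI : IsRegularLocalRing ((U : Scheme.{u}).presheaf.stalk x') :=
      IsRegularLocalRing.of_ringEquiv (RingEquiv.ofBijective g.hom hgb)
    have hd : ringKrullDim ((U : Scheme.{u}).presheaf.stalk x') = n :=
      (ringKrullDim_eq_of_ringEquiv (RingEquiv.ofBijective g.hom hgb)).symm.trans (hdim x hx)
    haveI := SerreDual.hasInjectiveResolutions_modules (U : Scheme.{u})
    let J := injectiveResolution (ω.restrict U.ι)
    obtain ⟨w⟩ := nonempty_homology_restrict U.ι (F := F) I J (n - i)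
    have hFU := AmpleLib.isCoh_restrict U.ι F hF
    obtain ⟨s⟩ := nonempty_stalk_homology_affine x' J (n - i) hFU
    obtain ⟨eF, heF⟩ := exists_restrict_stalk U.ι F x'
    obtain ⟨eω, heω⟩ := exists_restrict_stalk U.ι ω x'
    obtain ⟨eH, -⟩ := exists_restrict_stalk U.ι ((homCx F I).homology (n - i)) x'
    have hω' : IsFreeCyclic ((U : Scheme.{u}).presheaf.stalk x') ((ω.restrict U.ι).presheaf.stalk x') :=
      isFreeCyclic_of_semilinear g.hom eω.symm (fun r m => eω.injective (by
        rw [heω, AddEquiv.apply_symm_apply, AddEquiv.apply_symm_apply]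
        rfl)) hgb (isFreeCyclic_stalk_of_rank_one hω x)
    let q := ((DerSch.stalkFunctor (U : Scheme.{u}) x').mapIso w).toLinearEquiv.trans s
    haveI : Module.Finite ((U : Scheme.{u}).presheaf.stalk x')
        ((DerSch.stalkFunctor (U : Scheme.{u}) x').obj (F.restrict U.ι)) :=
      Props12.finite_stalk_of_isFT (F.restrict U.ι) hFU.2 x'
    refine (eH.toEquiv.subsingleton_congr.symm.trans q.toEquiv.subsingleton_congr).trans
      ((subsingleton_H_iff_ext hd (show i + (n - i) = n by omega)
        ((DerSch.stalkFunctor _ x').obj (F.restrict U.ι))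
        ((DerSch.stalkFunctor _ x').obj (ω.restrict U.ι)) hω').symm.trans ?_)
    exact (subsingleton_H_semilinear g.hom hgb eF.symm (fun r m => eF.injective (by
      rw [heF, AddEquiv.apply_symm_apply, AddEquiv.apply_symm_apply])) i).symm
  refine ⟨fun h x hx => (key x hx).1 ?_, fun h => ?_⟩
  · exact ModuleCat.subsingleton_of_isZero (Functor.map_isZero (DerSch.stalkFunctor _ x) h)
  · refine isZero_of_support_eq_empty (Set.eq_empty_iff_forall_notMem.2 fun y hy => ?_)
    obtain ⟨x, hx, hcl⟩ := (isClosed_closure (s := ({y} : Set P))).exists_closed_singleton ⟨y, subset_closure rfl⟩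
    have hxs : x ∈ CohB1.support ((homCx F I).homology (n - i)) :=
      (isClosed_support _ (locallyFinGen_of_isFT _ hH.2)).closure_subset_iff.2 (Set.singleton_subset_iff.2 hy) hx
    by_contra hne
    have := (key x hcl).2 (h x hcl)
    haveI : Subsingleton ((DerSch.stalkFunctor (CohB1.ProjSpace n k) x).obj ((homCx F I).homology (n - i))) := this
    exact (notMem_support_iff _ x).2 (ModuleCat.isZero_of_subsingleton _) hxs

end Groth.Agent.LocVan5
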